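import Cfsg.Agent.INV.L2S.Pin2
import Cfsg.Agent.INV.L2S.FourM

/-!
# L2S : q = 4, T = 2 x D8 is a Sylow subgroup
-/

set_option autoImplicit false
set_option linter.unusedSectionVars false
open Cfsg Subgroup CL.MSS CL.Szc
open scoped MatrixGroups commutatorElement

namespace CL.L2S

universe u v

variable {F : Type v} [Field F] [Fintype F] [CharP F 2] {G : Type u} [Group G] [Finite G]

/-- `φ` from `Fi.fr`, `z = u x₀` its fixed involution (`Fr.four`).  The involutions of `T - W` are `f, f z, t f, t f z` (`Fi.four`), `f ∼ f z`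
under `V`.  `Z(T) = ⟨t, z⟩`, so `N(T) ≤ C`, `T` is a Sylow subgroup (`syl_of`).  `W' = ⟨t, z, f⟩`; `conjT` gives `g f g⁻¹ = t`,
`g W' g⁻¹ ≤ T`; it contains the conjugate `g t g⁻¹ ≠ t`, which is not in `W`, and all elements commuting with it of square 1 lie in `W'`:
`g ∈ N(W')`.  If `t f ∼ t` then `z, t z` are the only involutions of `W'` not conjugate to `t`, `g` fixes their product `t`, false.
So `g` permutes `t, f, f z`.  `M = V ⟨t f⟩` is dihedral of order 8 and contains no conjugate of `t` : `t ∉ E` (`not_mem_E`), `f ∉ E`,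
`t f ∈ E`, `T ⊓ E = M`.  `out_dih` with the field involution `t f` (`Fi.t_mul`): `j` is inverted by `t` and `t f`, so
commutes with `f`; `j' = g j g⁻¹ ∈ C` commutes with `y = g z g⁻¹ ≠ t` and is inverted by `g (z t f) g⁻¹ = z` (as `z = f * f z` and
`{g t g⁻¹, g (f z) g⁻¹} = {f, f z}`): `Su.cube`. -/
theorem Su.out_P (Γ : Su F G) (hq : Fintype.card F = 4) (nv : Γ.Nv)
    (h : ∀ y, y ≠ 0 → ¬ IsConj Γ.t (Γ.t * Γ.u y)) {f : G} (hf : Γ.Fi f) (hc : IsConj Γ.t f) : Γ.Out := by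
  obtain ⟨x₁, h1⟩ := hf.exists_ne
  obtain ⟨x₀, ψ, q⟩ := hf.frame hq h1
  have cj : ∀ a b : M4, IsConj (ψ a) (ψ (b * a * b⁻¹)) := fun a b =>
    isConj_iff.2 ⟨ψ b, by rw [map_mul, map_mul, map_inv]⟩
  have hT : SylIn 2 Γ.T ⊤ := Γ.syl_of Γ.pT le_rfl fun g hg => ⟨1, one_mem _, by
    rw [one_mul, inv_one, mul_one]
    exact (q.conj_t nv hg).resolve_right fun e => h _ q.x0 (isConj_iff.2 ⟨g, e⟩)⟩
  have nc : ∀ m, IsConj Γ.t (ψ m) → m = Hm.t ∨ m = M4.f ∨ m = M4.f * M4.z ∨ m = Hm.t * M4.f ∨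
      m = Hm.t * M4.f * M4.z := fun m hm => by
    obtain ⟨g, e⟩ := isConj_iff.1 hm
    rcases (by decide : ∀ m : M4, m * m = 1 → M4.V m ∨ M4.V (Hm.t * m) ∨ m = M4.f ∨ m = M4.f * M4.z ∨
      m = Hm.t * M4.f ∨ m = Hm.t * M4.f * M4.z) m (q.inj (by
        rw [map_mul, ← e, conj_mul, Γ.tt, map_one]; group)) with p | p | p
    · exact absurd hm (nv.V ((q.V m).2 p))
    · obtain ⟨y, hy⟩ := (q.V _).2 p
      rw [map_mul, q.t] at hy
      by_cases y0 : y = 0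
      · rw [y0, Γ.u_zero] at hy
        exact .inl (q.inj (by rw [q.t, ← Γ.t_t (ψ m), hy, mul_one]))
      · exact absurd (by rwa [← hy, Γ.t_t]) (h y y0)
    · exact .inr p
  let W : Subgroup M4 := Hm.sub (fun m => m.i.val % 2 = 1 ↔ m.j) (by decide) (by decide) (by decide)
  obtain ⟨g, gf, gW⟩ := Γ.conjT hc (X := W.map ψ) (Γ.pT.to_le (q.rg ▸ map_le_range _ _)) (by
    rintro _ ⟨m, hm, rfl⟩
    rw [mem_centralizer_singleton_iff, ← q.f, ← map_mul, ← map_mul,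
      (by decide : ∀ m : M4, (m.i.val % 2 = 1 ↔ m.j) → m * M4.f = M4.f * m) m hm])
  obtain ⟨m1, e1⟩ := q.ex (gW _ ⟨Hm.t, (by decide : (_ ↔ _)), q.t⟩)
  obtain ⟨m2, e2⟩ := q.ex (gW _ ⟨M4.z, (by decide : (_ ↔ _)), q.z⟩)
  have cfz : IsConj Γ.t (ψ (M4.f * M4.z)) := hc.trans (q.f ▸ cj M4.f Hm.a)
  have n2 : ¬ IsConj Γ.t (ψ m2) := fun e => nv x₀ (e.trans (isConj_iff.2 ⟨g, e2.symm⟩).symm)
  have e3 : ψ (Hm.t * m2) = g * (f * Γ.u x₀) * g⁻¹ := by rw [map_mul, q.t, e2, ← gf, conj_mul]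
  have c3 : IsConj Γ.t (ψ (Hm.t * m2)) := cfz.trans (isConj_iff.2 ⟨g, by rw [e3, map_mul, q.f, q.z]⟩)
  have m21 : m2 ≠ 1 := by
    rintro rfl
    exact q.x0 (Γ.u_eq_one.1 (conj_eq_one_iff.1 (e2.symm.trans (map_one _))))
  have c4 : m2 = Hm.t * M4.f ∨ m2 = Hm.t * M4.f * M4.z := by
    rcases (by decide : ∀ m : M4, (Hm.t * m = Hm.t ∨ Hm.t * m = M4.f ∨ Hm.t * m = M4.f * M4.z ∨
      Hm.t * m = Hm.t * M4.f ∨ Hm.t * m = Hm.t * M4.f * M4.z) → m = 1 ∨ m = M4.f ∨ m = M4.f * M4.z ∨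
        m = Hm.t * M4.f ∨ m = Hm.t * M4.f * M4.z) m2 (nc _ c3) with rfl | rfl | rfl | p
    exacts [absurd rfl m21, absurd (q.f ▸ hc) n2, absurd cfz n2, p]
  have n5 : ¬ IsConj Γ.t (ψ (Hm.t * M4.f)) := fun e => n2 (by
    rcases c4 with rfl | rfl
    exacts [e, e.trans (cj _ Hm.a)])
  have nc' : ∀ m, IsConj Γ.t (ψ m) → m = Hm.t ∨ m = M4.f ∨ m = M4.f * M4.z := fun m hm => by
    rcases nc m hm with p | p | p | rfl | rfl
    exacts [.inl p, .inr (.inl p), .inr (.inr p), absurd hm n5, absurd (hm.trans (cj _ Hm.a)) n5]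
  have ft : f ≠ Γ.t := fun e => hf.nW (e ▸ Γ.t_mem_W)
  have c6 : m1 * (Hm.t * m2) = M4.z := (by decide : ∀ m1 m2 : M4, (m1 = Hm.t ∨ m1 = M4.f ∨ m1 = M4.f * M4.z) →
      (m2 = Hm.t * M4.f ∨ m2 = Hm.t * M4.f * M4.z) → m1 ≠ Hm.t → m1 ≠ Hm.t * m2 → m1 * (Hm.t * m2) = M4.z)
    m1 m2 (nc' _ (isConj_iff.2 ⟨g, e1.symm⟩)) c4
    (by rintro rfl; exact ft (by simpa using gf.trans (q.t.symm.trans e1)))
    (by
      rintro rfl
      have : Γ.t = f * Γ.u x₀ := by simpa using e1.symm.trans e3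
      exact hf.nW ((mul_mem_cancel_right (Γ.V_le_W (Γ.u_mem x₀))).1 (this ▸ Γ.t_mem_W)))
  let M : Subgroup M4 := Hm.sub (fun m => m.i.val % 2 = 1 ↔ m.k) (by decide) (by decide) (by decide)
  have tE : Γ.t ∉ Γ.E := Γ.not_mem_E hT (M := M.map ψ) (q.rg ▸ map_le_range _ _) (by
      rw [← q.rg, MonoidHom.range_eq_map, relIndex_map_map_of_injective _ _ q.inj, relIndex_top_right,
        index_eq_two_iff]
      have : ∀ b : M4, Xor ((b * Hm.t : M4).i.val % 2 = 1 ↔ (b * Hm.t : M4).k) (b.i.val % 2 = 1 ↔ b.k) := by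
        decide
      exact ⟨Hm.t, this⟩) (by
    rintro _ ⟨m, hm, rfl⟩ e
    rcases nc' m e with rfl | rfl | rfl <;> exact absurd hm (by decide : ¬ (_ ↔ _)))
  have tf : Γ.t * f ∈ Γ.E := Γ.mul_mem_E tE (mt (Γ.conj_mem_E hc).2 tE)
  have aE : Γ.u x₁ ∈ Γ.E := Γ.V_le_E (Γ.u_mem _)
  have cE := Γ.card_inf_E Γ.t_mem_T tE
  rw [(hf.four hq).1] at cE
  have : Fact (Nat.Prime 2) := ⟨Nat.prime_two⟩
  obtain ⟨e⟩ := dih_of (X := Γ.T ⊓ Γ.E) (x := ψ (Hm.t * M4.f * Hm.a)) (y := ψ Hm.a) (n := 4)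
    ⟨q.mem _, by rw [map_mul, map_mul ψ Hm.t, q.t, q.f, q.a]; exact mul_mem tf aE⟩ ⟨q.mem _, q.a ▸ aE⟩
    ((orderOf_injective ψ q.inj _).trans (orderOf_eq_prime_pow (p := 2) (n := 1) (by decide) (by decide)))
    (by rw [← map_mul, ← map_one ψ]; exact q.inj.ne (by decide)) (by rw [q.a, Γ.u_sq])
    (by rw [← map_inv, ← map_mul, ← map_mul, ← map_inv]; exact congrArg ψ (by decide)) (by omega)
  refine Γ.out_dih hq hf.t_mul tf (Γ.sylE hT) (.inl rfl) e q.x0 fun j _ ho jz tj hj => ?_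
  have i2 := hj _ tf hf.t_mul.sq (fun e => hf.t_mul.nW (e ▸ one_mem _))
    (fun e => hf.t_mul.nW (e ▸ Γ.V_le_W (Γ.u_mem _))) (q.z_comm hf.t_mul.mem)
  have ct : f * Γ.t = Γ.t * f := Γ.mem_C.1 (Γ.T_le_C hf.mem)
  have fj : f * j * f = j := by
    have : Γ.t * (f * j * f) * Γ.t = Γ.t * j * Γ.t := by
      rw [tj, ← i2, mul_assoc, mul_assoc (f * j), ct]; group
    simpa using this
  have fi : f⁻¹ = f := inv_eq_of_mul_eq_one_right hf.sq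
  have z' : Γ.u x₀ = g * (Γ.t * (f * Γ.u x₀)) * g⁻¹ := by rw [← conj_mul, ← e1, ← e3, ← map_mul, c6, q.z]
  have := Γ.cube hq (j := g * j * g⁻¹) (a := Γ.u x₀) (y := ψ m2)
    (Γ.mem_C.2 (by rw [← gf, conj_mul, conj_mul, ← mul_inv_eq_iff_eq_mul.1 (fi.symm ▸ fj : f * j * f⁻¹ = j)]))
    (by rwa [show orderOf (g * j * g⁻¹) = orderOf j from (MulAut.conj g).orderOf_eq j]) (Γ.uA x₀) (by
      rw [z']
      calc _ = g * (Γ.t * (f * (Γ.u x₀ * j * (Γ.u x₀)⁻¹) * f⁻¹) * Γ.t⁻¹) * g⁻¹ := by group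
        _ = _ := by rw [← jz, mul_inv_cancel_right, fi, fj, Γ.t_inv, tj]; group)
    (Γ.T_le_C (q.mem _)) (by rw [e2, conj_mul, Γ.u_sq]; group) (by rw [← map_one ψ]; exact q.inj.ne m21)
    (fun e => n2 (e ▸ IsConj.refl _)) (by rw [e2, conj_mul, conj_mul, jz])
  rwa [conj_pow, conj_eq_one_iff] at this

end CL.L2S
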